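import Cfsg.Agent.H858.BR.SpDefs

/-!
# HUB BR (S5715, S5716): `Sp_{2m}(F)` is irreducible over `K ⊇ F`; powers of torus elements (helper545)

* `exists_form_ne`, `join`, `span_vk`, `irr`; `tor`, `torHom`, `pw`.
-/

set_option autoImplicit false

namespace Cfsg.Agent.H545.BR.SpIrr

open Cfsg Matrix Cfsg.Agent.H883.BR Cfsg.Agent.H858.BR Cfsg.Agent.ClassicalGeometry.SympBasic

variable {m : ℕ} {F : Type*} [Field F] {K : Type*} [Field K] [Algebra F K]

theorem vk_single (i : Fin m ⊕ Fin m) : vk K (Pi.single i (1 : F)) = Pi.single i 1 := by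
  funext j
  unfold vk
  by_cases h : j = i
  · rw [h, Pi.single_eq_same, Pi.single_eq_same, map_one]
  · rw [Pi.single_eq_of_ne h, Pi.single_eq_of_ne h, map_zero]

theorem single_ne (i : Fin m ⊕ Fin m) : (Pi.single i (1 : F) : Fin m ⊕ Fin m → F) ≠ 0 := by
  intro h
  have h1 := congrFun h i
  rw [Pi.single_eq_same] at h1
  exact one_ne_zero h1

/-- a vector which is orthogonal to neither of two nonzero vectors -/
theorem exists_both {v w : Fin m ⊕ Fin m → F} (hv : v ≠ 0) (hw : w ≠ 0) :
    ∃ z, sympForm m F v z ≠ 0 ∧ sympForm m F z w ≠ 0 := by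
  obtain ⟨a, ha⟩ : ∃ a, sympForm m F v a ≠ 0 := by
    by_contra hcon
    push Not at hcon
    exact hv (eq_zero_of_forall_sympForm_left (v := v) (fun u => by
      rw [sympForm_swap, hcon, neg_zero]))
  obtain ⟨b, hb⟩ : ∃ b, sympForm m F b w ≠ 0 := by
    by_contra hcon
    push Not at hcon
    exact hw (eq_zero_of_forall_sympForm_left (v := w) (fun u => hcon u))
  by_cases h1 : sympForm m F a w = 0
  · by_cases h2 : sympForm m F v b = 0
    · refine ⟨a + b, ?_, ?_⟩
      · rw [sympForm_add_right, h2, add_zero]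
        exact ha
      · rw [sympForm_add_left, h1, zero_add]
        exact hb
    · exact ⟨b, h2, hb⟩
  · exact ⟨a, ha, h1⟩

/-- connectedness of the nonzero vectors -/
theorem join {P : (Fin m ⊕ Fin m → F) → Prop} (h : ∀ v w, sympForm m F v w ≠ 0 → P v → P w)
    {v w : Fin m ⊕ Fin m → F} (hv0 : v ≠ 0) (hw0 : w ≠ 0) (hP : P v) : P w := by
  obtain ⟨z, h1, h2⟩ := exists_both hv0 hw0
  exact h z w h2 (h v z h1 hP)

/-- some vector over `F` is not orthogonal to a given nonzero vector over `K` -/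
theorem exists_form_ne {w : Fin m ⊕ Fin m → K} (hw : w ≠ 0) :
    ∃ v : Fin m ⊕ Fin m → F, v ≠ 0 ∧ sympForm m K w (vk K v) ≠ 0 := by
  by_contra hcon
  push Not at hcon
  apply hw
  funext j
  have h1 : ∀ i, sympForm m K w (Pi.single i 1) = 0 := by
    intro i
    have h2 := hcon (Pi.single i 1) (single_ne i)
    rwa [vk_single] at h2
  rcases j with j | j
  · have h2 := h1 (Sum.inr j)
    rw [sympForm_single_inr_right] at h2
    simpa using h2
  · have h2 := h1 (Sum.inl j)
    rw [sympForm_single_inl_right] at h2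
    simpa using h2

/-- the vectors over `F` span -/
theorem span_vk (U : Submodule K (Fin m ⊕ Fin m → K)) (h : ∀ v : Fin m ⊕ Fin m → F, v ≠ 0 → vk K v ∈ U) :
    U = ⊤ := by
  classical
  rw [eq_top_iff]
  intro w _
  have hs : w = ∑ j, w j • (Pi.single j 1 : Fin m ⊕ Fin m → K) := pi_eq_sum_univ' w
  rw [hs]
  refine Submodule.sum_mem _ fun j _ => U.smul_mem _ ?_
  rw [← vk_single (F := F)]
  exact h _ (single_ne j)

/-- **`V` is irreducible** -/
theorem irr (hm : 1 ≤ m) : Irr (rho m F K) ⊤ := by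
  have h0 : Nonempty (Fin m ⊕ Fin m) := ⟨Sum.inl ⟨0, by omega⟩⟩
  refine ⟨inferInstance, fun U hU => ?_⟩
  by_cases hbot : U = ⊥
  · exact Or.inl hbot
  right
  have hmem : ∀ v : Fin m ⊕ Fin m → F, ∀ u ∈ U, sympForm m K u (vk K v) ≠ 0 → vk K v ∈ U := by
    intro v u hu hne
    have h1 := hU (transv v 1) (Subgroup.mem_top _) u hu
    rw [rho_transv, map_one, one_smul, LinearMap.add_apply, Module.End.one_apply, rt_apply] at h1
    have h2 := U.sub_mem h1 hu
    rw [add_sub_cancel_left] at h2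
    have h3 := U.smul_mem (sympForm m K u (vk K v))⁻¹ h2
    rwa [smul_smul, inv_mul_cancel₀ hne, one_smul] at h3
  obtain ⟨u, hu, hu0⟩ := Submodule.exists_mem_ne_zero_of_ne_bot hbot
  obtain ⟨v, hv0, hfv⟩ := exists_form_ne (F := F) hu0
  refine span_vk (F := F) U fun w hw0 => ?_
  refine join (P := fun w => vk K w ∈ U) (fun v w hne hP => ?_) hv0 hw0 (hmem v u hu hfv)
  refine hmem w _ hP ?_
  rw [form_vk, Ne, map_eq_zero]
  exact hne

/-- the torus -/
def tor (d : Fin m → Fˣ) : symplecticGroup (Fin m) F :=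
  ⟨Matrix.fromBlocks (Matrix.diagonal fun i => ((d i : Fˣ) : F)) 0 0
    (Matrix.diagonal fun i => (((d i)⁻¹ : Fˣ) : F)), by
    rw [SymplecticGroup.mem_iff, Matrix.J, Matrix.fromBlocks_transpose, Matrix.fromBlocks_multiply,
      Matrix.fromBlocks_multiply]
    simp only [Matrix.transpose_zero, Matrix.diagonal_transpose, Matrix.mul_zero, Matrix.zero_mul, add_zero, zero_add,
      Matrix.mul_neg, Matrix.mul_one, Matrix.neg_mul, Matrix.diagonal_mul_diagonal, neg_zero]
    congr 1
    · congr 1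
      rw [← Matrix.diagonal_one]
      congr 1
      funext i
      exact Units.mul_inv _
    · rw [← Matrix.diagonal_one]
      congr 1
      funext i
      exact Units.inv_mul _⟩

theorem tor_mul (d d' : Fin m → Fˣ) : tor (d * d') = tor d * tor d' := by
  apply Subtype.ext
  change Matrix.fromBlocks _ _ _ _ = Matrix.fromBlocks _ _ _ _ * Matrix.fromBlocks _ _ _ _
  rw [Matrix.fromBlocks_multiply]
  simp only [Matrix.mul_zero, Matrix.zero_mul, add_zero, zero_add, Matrix.diagonal_mul_diagonal]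
  congr 1
  congr 1
  funext i
  rw [← Units.val_mul, Pi.mul_apply, mul_inv]

/-- the torus, as a homomorphism -/
def torHom (m : ℕ) (F : Type*) [Field F] : (Fin m → Fˣ) →* symplecticGroup (Fin m) F where
  toFun := tor
  map_one' := by
    apply Subtype.ext
    change Matrix.fromBlocks _ _ _ _ = 1
    have h1 : (Matrix.diagonal fun i : Fin m => (((1 : Fin m → Fˣ) i : Fˣ) : F)) = 1 := Matrix.diagonal_one
    have h2 : (Matrix.diagonal fun i : Fin m => ((((1 : Fin m → Fˣ) i)⁻¹ : Fˣ) : F)) = 1 := by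
      simp
    rw [h1, h2, Matrix.fromBlocks_one]
  map_mul' := tor_mul

theorem tor_single_inr (d : Fin m → Fˣ) (i : Fin m) (b : K) :
    rho m F K (tor d) (Pi.single (Sum.inr i) b) =
      Pi.single (Sum.inr i) (algebraMap F K (((d i)⁻¹ : Fˣ) : F) * b) := by
  rw [rho_apply, Matrix.toLin'_apply, Matrix.mulVec_single]
  funext j
  rcases j with j | j
  · simp [tor]
  · by_cases h : j = i
    · subst h
      simp [tor, mul_comm]
    · simp [tor, h]

theorem tor_single_inl (d : Fin m → Fˣ) (i : Fin m) (b : K) :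
    rho m F K (tor d) (Pi.single (Sum.inl i) b) =
      Pi.single (Sum.inl i) (algebraMap F K ((d i : Fˣ) : F) * b) := by
  rw [rho_apply, Matrix.toLin'_apply, Matrix.mulVec_single]
  funext j
  rcases j with j | j
  · by_cases h : j = i
    · subst h
      simp [tor, mul_comm]
    · simp [tor, h]
  · simp [tor]

/-- powers which are not scalar -/
theorem pw [Finite F] (hm : 1 ≤ m) (k : ℕ) (hk : 0 < k) (hk' : 2 * k + 1 < Nat.card F) :
    ∃ g : symplecticGroup (Fin m) F, ad (rho m F K) (g ^ k) ≠ 1 := by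
  obtain ⟨s, hs⟩ := IsCyclic.exists_ofOrder_eq_natCard (α := Fˣ)
  rw [Nat.card_units] at hs
  let i : Fin m := ⟨0, by omega⟩
  refine ⟨torHom m F fun _ => s, fun h => ?_⟩
  have hg : (torHom m F fun _ => s) ^ k = tor fun _ => s ^ k := by
    rw [← map_pow]
    rfl
  have hg' : ((torHom m F fun _ => s) ^ k)⁻¹ = tor fun _ => (s ^ k)⁻¹ := by
    rw [← map_pow, ← map_inv]
    rfl
  set X : Module.End K (Fin m ⊕ Fin m → K) := Matrix.toLin' (Matrix.single (Sum.inl i) (Sum.inr i) 1) with hX
  have hXl : ∀ b : K, X (Pi.single (Sum.inr i) b) = Pi.single (Sum.inl i) b := by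
    intro b
    rw [hX, Matrix.toLin'_apply, Matrix.mulVec_single]
    funext j
    by_cases hj : j = Sum.inl i
    · subst hj
      simp
    · simp [hj, Ne.symm hj]
  have h3 := LinearMap.congr_fun (LinearMap.congr_fun h X) (Pi.single (Sum.inr i) 1)
  change rho m F K ((torHom m F fun _ => s) ^ k)
    (X (rho m F K ((torHom m F fun _ => s) ^ k)⁻¹ (Pi.single (Sum.inr i) 1))) = X (Pi.single (Sum.inr i) 1) at h3
  rw [hg', hg, tor_single_inr, hXl, hXl, tor_single_inl, inv_inv, mul_one, ← map_mul, ← Units.val_mul,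
    ← pow_add] at h3
  have h5 := congrFun h3 (Sum.inl i)
  rw [Pi.single_eq_same, Pi.single_eq_same] at h5
  have h6 : s ^ (k + k) = 1 := by
    apply Units.ext
    apply (algebraMap F K).injective
    rw [h5, Units.val_one, map_one]
  have h7 := Nat.le_of_dvd (by omega) (orderOf_dvd_of_pow_eq_one h6)
  omega

end Cfsg.Agent.H545.BR.SpIrr
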